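import Cfsg.Agent.Spor.Ly.Main
import Cfsg.Agent.Comp.DCE5
import Cfsg.Agent.Spor.Ly.MatOrd

set_option autoImplicit false
set_option Elab.async false
set_option maxRecDepth 100000

namespace Cfsg.Agent.Spor.LyC

open Cfsg.Agent.Comp.BN Cfsg.Agent.Comp.DCE

set_option linter.unusedVariables false

/-- the subgroup `M` in the presented group -/
noncomputable def ι (hB : Bound PH 5859000000) : M →* Cfsg.Spor.Ly := (exists_hom hB (implH _ _ link.1.sat)).choose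

theorem hι (hB : Bound PH 5859000000) : ∀ k, ι hB (x0 k) = subT x wsH k := (exists_hom hB (implH _ _ link.1.sat)).choose_spec

theorem final (hB : Bound PH 5859000000) : Finite Cfsg.Spor.Ly ∧ Nat.card Cfsg.Spor.Ly = 51765179004000000 ∧ (ι hB).range.index = 8835156 ∧
    Function.Injective (ι hB) ∧ ∀ W, ev Mat.R W = 1 → ev x W = 1 :=
  have := (mod hB).2.fin
  final_of link.1 (mod hB).2.top (hι hB) (cover hB link.1.sat (hι hB) link.1.top) (mod hB).1 (by decide) Mat.satR Mat.dvdR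

theorem index (hB : Bound PH 5859000000) : (gen (subT x wsH)).index = 8835156 :=
  range_eq (mod hB).2.top (hι hB) ▸ (final hB).2.2.1

theorem pw0 : Mat.q.powC Mat.L [2, 10, 5, 2, 9] 37 = true :=
  by decide +kernel

theorem pw0' : Mat.q.powC Mat.L (appendL (invW P.I [2, 10, 5, 2, 9]) [0]) 37 = true :=
  by decide +kernel

theorem pw1 : Mat.q.powC Mat.L [10, 3, 3, 8] 37 = true :=
  by decide +kernel

theorem pw1' : Mat.q.powC Mat.L (appendL (invW P.I [10, 3, 3, 8]) [2]) 37 = true :=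
  by decide +kernel

theorem pw2 : Mat.q.powC Mat.L [0, 10, 0, 8, 10] 37 = true :=
  by decide +kernel

theorem pw2' : Mat.q.powC Mat.L (appendL (invW P.I [0, 10, 0, 8, 10]) [8]) 37 = true :=
  by decide +kernel

theorem simple (hB : Bound PH 5859000000) : IsSimpleGroup Cfsg.Spor.Ly :=
  simple_of_pairs (coatom hB link.1.sat (hι hB) link.1.top (final hB).2.2.1) (core hB link.1.sat (hι hB) link.1.top (final hB).2.2.1)
    link.1.sat link.1.top (final hB).2.2.2.2 ((card_range_of_injective (final hB).2.2.2.1).trans (mod hB).1)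
    [(0, [2, 10, 5, 2, 9], 37, 37), (2, [10, 3, 3, 8], 37, 37), (8, [0, 10, 0, 8, 10], 37, 37)]
    ⟨⟨by norm_num, Mat.mdl.pow_eq_one pw0, Mat.mdl.pow_eq_one pw0'⟩, ⟨by norm_num, Mat.mdl.pow_eq_one pw1, Mat.mdl.pow_eq_one pw1'⟩, ⟨by norm_num, Mat.mdl.pow_eq_one pw2, Mat.mdl.pow_eq_one pw2'⟩, trivial⟩
    [(11, [11, 1]), (29, [29, 1, 1]), (13, [13, 2, 1, 3]), (55, [55, 0, 0, 0]), (58, [9, 13, 8, 58]), (28, [1, 27, 0, 28, 28]), (54, [9, 27, 8, 54]), (15, [15, 2, 2, 1, 3, 3]), (60, [9, 15, 8, 60]), (17, [17, 3, 3, 1, 2, 2]), (5, [53, 4, 2, 2, 5, 1, 3, 5, 2, 0, 3, 3]), (19, [19, 5]), (21, [21, 1, 5, 0]), (23, [23, 3, 5, 2]), (25, [25, 2, 5, 3]), (46, [9, 19, 8, 46]), (48, [9, 21, 8, 48]), (50, [9, 23, 8, 50]), (52, [9, 25, 8, 52]), (10, [10, 21, 10, 22, 10, 21, 26, 0, 23, 0, 0, 0]), (6, [6, 10, 3, 21, 1, 10, 1, 10, 1, 27, 25, 19, 2, 0, 3, 3, 1]), (31, [31, 7]),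 (33, [33, 6]), (41, [41, 7, 3]), (43, [43, 2, 6]), (39, [39, 6, 4, 3, 0, 4, 0, 6, 4]), (75, [75, 3, 0, 2, 0, 2, 5, 1, 5, 0, 5, 6, 4, 3, 5, 0, 4]), (35, [8, 41, 8, 35, 9, 43, 9, 75]), (71, [71, 2, 1, 2, 2, 1, 2, 4, 2, 0, 3, 6, 4, 2, 0, 3, 6, 4, 0]), (37, [9, 33, 9, 71, 8, 31, 8, 37]), (73, [73, 0, 3, 0, 2, 2, 0, 5, 0, 2, 1, 6, 4, 0, 5, 3, 5, 1, 6]), (61, [61, 2, 1, 3, 1, 2, 1, 4, 0, 2, 4, 3, 6, 4, 3, 0, 4, 2, 7, 0]), (69, [39, 8, 61, 8, 69, 8]), (63, [63, 6, 2, 5, 0, 5, 1, 5, 7, 4, 4, 0, 3, 4, 3, 5, 0, 2, 2, 1]), (65, [65, 5, 3, 5, 7, 2, 2, 5, 7, 3, 5, 3, 3, 5, 2, 0, 2, 2, 0, 2, 1, 3]), (67, [8, 65, 8, 63, 9, 67, 9, 73])] [(129, 0), (141, 0), (132, 0), (180, 0), (231, 0), (72, 0), (225, 0), (135, 0), (234, 0), (138, 0), (177, 0), (15, 0), (18, 0), (21, 0), (24, 0), (213, 0), (216, 0), (219, 0), (222, 0), (108, 0), (111, 0), (144, 0), (147, 0), (159, 0), (162,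 0), (156, 0), (210, 0), (252, 0), (204, 0), (246, 0), (207, 0), (189, 0), (243, 0), (192, 0), (195, 0), (249, 0)] (by decide +kernel)

theorem subeq : (Subgroup.closure ({Cfsg.Spor.Ly.a, Cfsg.Spor.Ly.b, Cfsg.Spor.Ly.c, Cfsg.Spor.Ly.d} : Set (FreeGroup Cfsg.Spor.Ly.Gen))).map
    (PresentedGroup.mk (Cfsg.Spor.coxRelators Cfsg.Spor.Ly.edges ∪ {r | r ∈ Cfsg.Spor.Ly.extra})) = gen (subT x [[0], [2], [4], [6]]) :=
  map_closure_eq link.2 [Cfsg.Spor.Ly.a, Cfsg.Spor.Ly.b, Cfsg.Spor.Ly.c, Cfsg.Spor.Ly.d] [[0], [2], [4], [6]] (by decide +kernel) _ (fun w => by simp only [Set.mem_insert_iff, Set.mem_singleton_iff, List.mem_cons, List.not_mem_nil, or_false])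

theorem gen_eq : gen (subT x [[0], [2], [4], [6]]) = gen (subT x wsH) :=
  gen_eq_of_leC link.1.sat [([0], []), ([2], []), ([4], []), ([6], [])] [([0], []), ([4], []), ([1], []), ([5], []), ([2], []), ([6], []), ([3], []), ([7], []), ([5, 5, 4, 6, 0, 2, 4, 2, 0, 3, 2, 1, 0, 5, 3, 2, 3], [(16, 15, 0), (13, 15, 0), (15, 15, 0), (16, 15, 0), (17, 16, 0), (1, 255, 0), (15, 84, 0)]), ([2], [(1, 15, 0)]), ([6], [(0, 16, 0)]), ([4, 2, 0], [(1, 18, 0)]), ([4, 6, 0], [(0, 19, 0)]), ([5, 2, 1], [(1, 21, 0)]), ([5, 6, 1], [(0, 22, 0)]), ([1, 2, 5], [(1, 24, 0)]), ([1, 6, 5], [(0, 25, 0)]), ([6, 4, 6, 0, 2, 4, 2, 0], [(6, 18, 0), (6, 15, 0), (0, 19, 0), (3, 255, 0), (0, 16, 0), (1, 255, 0), (0, 27, 0)]), ([4, 6, 0, 6, 4, 2, 0, 2], [(8, 15, 0), (6, 18, 0), (0, 16, 0), (1, 255, 0), (0, 19, 0), (3, 255, 0), (4, 28, 0)])] (by decide +kernel)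

end Cfsg.Agent.Spor.LyC
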