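import Cfsg.Agent.Comp.BitMore3
import Cfsg.Prelude.Def_Spor_Ly

set_option autoImplicit false
set_option Elab.async false
set_option maxRecDepth 100000

namespace Cfsg.Agent.Spor.LyC

open Cfsg.Agent.Comp.BN

/-- letters: 0 = a, 1 = a⁻¹, 2 = b, 3 = b⁻¹, 4 = c, 5 = c⁻¹, 6 = d, 7 = d⁻¹, 8 = z, 9 = z⁻¹, 10 = e, 11 = a1, 12 = a1⁻¹, 13 = a2, 14 = a2⁻¹, 15 = a3, 16 = a3⁻¹, 17 = a4, 18 = a4⁻¹, 19 = c1, 20 = c1⁻¹, 21 = c2, 22 = c2⁻¹, 23 = c3, 24 = c3⁻¹, 25 = c4, 26 = c4⁻¹, 27 = c5, 28 = c5⁻¹, 29 = u, 30 = u⁻¹, 31 = x23, 32 = x23⁻¹, 33 = x24, 34 = x24⁻¹, 35 = x25, 36 = x25⁻¹, 37 = x29, 38 = x29⁻¹, 39 = x47, 40 = x47⁻¹, 41 = x96, 42 = x96⁻¹, 43 = x129, 44 = x129⁻¹, 45 = x162, 46 = x162⁻¹, 47 = x163, 48 = x163⁻¹, 49 = x164, 50 = x164⁻¹, 51 = x165, 52 = x165⁻¹, 53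 = x166, 54 = x166⁻¹, 55 = x167, 56 = x167⁻¹, 57 = x168, 58 = x168⁻¹, 59 = x169, 60 = x169⁻¹, 61 = x364, 62 = x364⁻¹, 63 = x365, 64 = x365⁻¹, 65 = x366, 66 = x366⁻¹, 67 = x367, 68 = x367⁻¹, 69 = x368, 70 = x368⁻¹, 71 = x369, 72 = x369⁻¹, 73 = x370, 74 = x370⁻¹, 75 = x371, 76 = x371⁻¹ -/

def P : Pres := ⟨[1, 0, 3, 2, 5, 4, 7, 6, 9, 8, 10, 12, 11, 14, 13, 16, 15, 18, 17, 20, 19, 22, 21, 24, 23, 26, 25, 28, 27, 30, 29, 32, 31, 34, 33, 36, 35, 38, 37, 40, 39, 42, 41, 44, 43, 46, 45, 48, 47, 50, 49, 52, 51, 54, 53, 56, 55, 58, 57, 60, 59, 62, 61, 64, 63, 66, 65, 68, 67, 70, 69, 72, 71, 74, 73, 76, 75],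
  [[0, 0, 0, 0, 0, 0, 0, 0],
   [2, 2, 2, 2, 2],
   [0, 2, 0, 2, 0, 2, 0, 2],
   [1, 1, 3, 0, 0, 2],
   [1, 3, 0, 2, 1, 3, 0, 2, 1, 3, 0, 2],
   [19, 5],
   [21, 1, 5, 0],
   [23, 3, 5, 2],
   [25, 2, 5, 3],
   [27, 22, 20, 21, 19],
   [19, 19, 19, 19, 19],
   [27, 27, 27, 27, 27],
   [20, 28, 19, 27],
   [22, 28, 21, 27],
   [24, 28, 23, 27],
   [26, 28, 25, 27],
   [20, 24, 19, 23, 27, 27],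
   [20, 26, 19, 25, 28, 28],
   [22, 24, 21, 23, 27],
   [22, 26, 21, 25],
   [24, 26, 23, 25, 27],
   [1, 21, 0, 19, 19],
   [1, 23, 0, 26, 20, 23, 23],
   [1, 25, 0, 26, 20, 26, 23, 21, 20],
   [1, 27, 0, 28, 28],
   [3, 21, 2, 25, 19, 25, 24, 22],
   [3, 23, 2, 23, 23, 26, 20, 20],
   [3, 27, 2, 28],
   [10, 7, 20, 7, 2, 1, 3, 20, 7, 1, 20, 0, 20, 1, 19, 0, 2, 2],
   [10, 19, 10, 19, 3, 24, 3],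
   [10, 23, 10, 0, 25, 19, 22, 1, 3, 3],
   [10, 25, 10, 26, 23, 3, 3],
   [10, 27, 10, 25, 20, 23, 20],
   [10, 0, 0, 10, 25, 28, 20, 1, 2, 1, 3, 3, 1],
   [10, 2, 10, 25, 25, 23, 20],
   [10, 0, 2, 2, 0, 3, 0, 10, 25, 28, 20, 1, 1],
   [10, 21, 10, 22, 10, 21, 26, 0, 23, 0, 0, 0],
   [6, 10, 3, 21, 1, 10, 1, 10, 1, 27, 25, 19, 2, 0, 3, 3, 1],
   [6, 6, 1, 1, 1, 1],
   [3, 7, 2, 6],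
   [7, 0, 6, 1, 1, 1],
   [6, 27, 6, 27, 6, 27, 6, 27, 6, 27],
   [6, 27, 6, 28, 6, 27, 1, 1],
   [11, 1],
   [13, 2, 1, 3],
   [15, 2, 2, 1, 3, 3],
   [17, 3, 3, 1, 2, 2],
   [29, 1, 1],
   [31, 7],
   [33, 6],
   [35, 3, 5, 0, 3, 3, 4, 7, 4, 0, 5, 1, 4, 3, 3, 0, 2, 0, 3, 3],
   [37, 5, 3, 5, 7, 2, 2, 5, 7, 2, 5, 3, 5, 1, 4, 3, 3, 0, 3, 3, 0, 3, 1],
   [39, 6, 4, 3, 0, 4, 0, 6, 4],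
   [41, 7, 3],
   [43, 2, 6],
   [45, 1, 3, 4, 1, 2, 4, 3, 0, 2, 0],
   [47, 3, 5, 3, 0, 5, 1, 2, 2],
   [49, 1, 3, 1, 5, 0, 2, 0],
   [51, 3, 1, 2, 5, 3, 0, 2],
   [53, 4, 2, 2, 5, 1, 3, 5, 2, 0, 3, 3],
   [55, 0, 0, 0],
   [57, 0, 0, 2, 0, 3],
   [59, 0, 2, 2, 1, 3, 3, 1],
   [61, 2, 1, 3, 1, 2, 1, 4, 0, 2, 4, 3, 6, 4, 3, 0, 4, 2, 7, 0],
   [63, 6, 2, 5, 0, 5, 1, 5, 7, 4, 4, 0, 3, 4, 3, 5, 0, 2, 2, 1],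
   [65, 5, 3, 5, 7, 2, 2, 5, 7, 3, 5, 3, 3, 5, 2, 0, 2, 2, 0, 2, 1, 3],
   [67, 2, 0, 3, 1, 3, 3, 1, 3, 4, 2, 2, 4, 2, 6, 4, 3, 3, 6, 4, 2, 4],
   [69, 2, 2, 0, 2, 4, 2, 2, 5, 1, 4, 0, 6, 4, 1, 2, 4, 1, 6, 4, 0],
   [71, 2, 1, 2, 2, 1, 2, 4, 2, 0, 3, 6, 4, 2, 0, 3, 6, 4, 0],
   [73, 0, 3, 0, 2, 2, 0, 5, 0, 2, 1, 6, 4, 0, 5, 3, 5, 1, 6],
   [75, 3, 0, 2, 0, 2, 5, 1, 5, 0, 5, 6, 4, 3, 5, 0, 4],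
   [9, 19, 8, 46],
   [9, 21, 8, 48],
   [9, 23, 8, 50],
   [9, 25, 8, 52],
   [9, 27, 8, 54],
   [9, 11, 8, 56],
   [9, 13, 8, 58],
   [9, 15, 8, 60],
   [8, 8, 30],
   [17, 8, 17, 8, 17, 8, 29],
   [39, 8, 61, 8, 69, 8],
   [9, 33, 9, 71, 8, 31, 8, 37],
   [8, 65, 8, 63, 9, 67, 9, 73],
   [8, 41, 8, 35, 9, 43, 9, 75]]⟩

def enc : Cfsg.Spor.Ly.Gen → ℕ
  | .a => 0
  | .b => 2
  | .c => 4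
  | .d => 6
  | .z => 8
  | .e => 10
  | .a1 => 11
  | .a2 => 13
  | .a3 => 15
  | .a4 => 17
  | .c1 => 19
  | .c2 => 21
  | .c3 => 23
  | .c4 => 25
  | .c5 => 27
  | .u => 29
  | .x23 => 31
  | .x24 => 33
  | .x25 => 35
  | .x29 => 37
  | .x47 => 39
  | .x96 => 41
  | .x129 => 43
  | .x162 => 45
  | .x163 => 47
  | .x164 => 49
  | .x165 => 51
  | .x166 => 53
  | .x167 => 55
  | .x168 => 57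
  | .x169 => 59
  | .x364 => 61
  | .x365 => 63
  | .x366 => 65
  | .x367 => 67
  | .x368 => 69
  | .x369 => 71
  | .x370 => 73
  | .x371 => 75

def lt : List (FreeGroup Cfsg.Spor.Ly.Gen) := [Cfsg.Spor.Ly.a, Cfsg.Spor.Ly.a⁻¹, Cfsg.Spor.Ly.b, Cfsg.Spor.Ly.b⁻¹, Cfsg.Spor.Ly.c, Cfsg.Spor.Ly.c⁻¹, Cfsg.Spor.Ly.d, Cfsg.Spor.Ly.d⁻¹, Cfsg.Spor.Ly.z, Cfsg.Spor.Ly.z⁻¹, Cfsg.Spor.Ly.e, Cfsg.Spor.Ly.a1, Cfsg.Spor.Ly.a1⁻¹, Cfsg.Spor.Ly.a2, Cfsg.Spor.Ly.a2⁻¹, Cfsg.Spor.Ly.a3, Cfsg.Spor.Ly.a3⁻¹, Cfsg.Spor.Ly.a4, Cfsg.Spor.Ly.a4⁻¹, Cfsg.Spor.Ly.c1, Cfsg.Spor.Ly.c1⁻¹, Cfsg.Spor.Ly.c2, Cfsg.Spor.Ly.c2⁻¹, Cfsg.Spor.Ly.c3, Cfsg.Spor.Ly.c3⁻¹, Cfsg.Spor.Ly.c4, Cfsg.Spor.Ly.c4⁻¹, Cfsg.Spor.Ly.c5, Cfsg.Spor.Ly.c5⁻¹, Cfsg.Spor.Ly.u, Cfsg.Spor.Ly.u⁻¹, Cfsg.Spor.Ly.x23, Cfsg.Spor.Ly.x23⁻¹,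 Cfsg.Spor.Ly.x24, Cfsg.Spor.Ly.x24⁻¹, Cfsg.Spor.Ly.x25, Cfsg.Spor.Ly.x25⁻¹, Cfsg.Spor.Ly.x29, Cfsg.Spor.Ly.x29⁻¹, Cfsg.Spor.Ly.x47, Cfsg.Spor.Ly.x47⁻¹, Cfsg.Spor.Ly.x96, Cfsg.Spor.Ly.x96⁻¹, Cfsg.Spor.Ly.x129, Cfsg.Spor.Ly.x129⁻¹, Cfsg.Spor.Ly.x162, Cfsg.Spor.Ly.x162⁻¹, Cfsg.Spor.Ly.x163, Cfsg.Spor.Ly.x163⁻¹, Cfsg.Spor.Ly.x164, Cfsg.Spor.Ly.x164⁻¹, Cfsg.Spor.Ly.x165, Cfsg.Spor.Ly.x165⁻¹, Cfsg.Spor.Ly.x166, Cfsg.Spor.Ly.x166⁻¹, Cfsg.Spor.Ly.x167, Cfsg.Spor.Ly.x167⁻¹, Cfsg.Spor.Ly.x168, Cfsg.Spor.Ly.x168⁻¹, Cfsg.Spor.Ly.x169, Cfsg.Spor.Ly.x169⁻¹, Cfsg.Spor.Ly.x364, Cfsg.Spor.Ly.x364⁻¹, Cfsg.Spor.Ly.x365, Cfsg.Spor.Ly.x365⁻¹, Cfsg.Spor.Ly.x366, Cfsg.Spor.Ly.x366⁻¹, Cfsg.Spor.Ly.x367, Cfsg.Spor.Ly.x367⁻¹, Cfsg.Spor.Ly.x368, Cfsg.Spor.Ly.x368⁻¹, Cfsg.Spor.Ly.x369,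 Cfsg.Spor.Ly.x369⁻¹, Cfsg.Spor.Ly.x370, Cfsg.Spor.Ly.x370⁻¹, Cfsg.Spor.Ly.x371, Cfsg.Spor.Ly.x371⁻¹]

noncomputable def x : ℕ → Cfsg.Spor.Ly := coxT Cfsg.Spor.Ly.edges Cfsg.Spor.Ly.extra lt

theorem hk : ∀ k < P.inv.length, ∃ q, k = enc q ∨ k = P.I (enc q) := by
  intro k hk
  change k < 77 at hk
  interval_cases k
  · exact ⟨.a, Or.inl rfl⟩
  · exact ⟨.a, Or.inr rfl⟩
  · exact ⟨.b, Or.inl rfl⟩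
  · exact ⟨.b, Or.inr rfl⟩
  · exact ⟨.c, Or.inl rfl⟩
  · exact ⟨.c, Or.inr rfl⟩
  · exact ⟨.d, Or.inl rfl⟩
  · exact ⟨.d, Or.inr rfl⟩
  · exact ⟨.z, Or.inl rfl⟩
  · exact ⟨.z, Or.inr rfl⟩
  · exact ⟨.e, Or.inl rfl⟩
  · exact ⟨.a1, Or.inl rfl⟩
  · exact ⟨.a1, Or.inr rfl⟩
  · exact ⟨.a2, Or.inl rfl⟩
  · exact ⟨.a2, Or.inr rfl⟩
  · exact ⟨.a3, Or.inl rfl⟩
  · exact ⟨.a3, Or.inr rfl⟩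
  · exact ⟨.a4, Or.inl rfl⟩
  · exact ⟨.a4, Or.inr rfl⟩
  · exact ⟨.c1, Or.inl rfl⟩
  · exact ⟨.c1, Or.inr rfl⟩
  · exact ⟨.c2, Or.inl rfl⟩
  · exact ⟨.c2, Or.inr rfl⟩
  · exact ⟨.c3, Or.inl rfl⟩
  · exact ⟨.c3, Or.inr rfl⟩
  · exact ⟨.c4, Or.inl rfl⟩
  · exact ⟨.c4, Or.inr rfl⟩
  · exact ⟨.c5, Or.inl rfl⟩
  · exact ⟨.c5, Or.inr rfl⟩
  · exact ⟨.u, Or.inl rfl⟩
  · exact ⟨.u, Or.inr rfl⟩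
  · exact ⟨.x23, Or.inl rfl⟩
  · exact ⟨.x23, Or.inr rfl⟩
  · exact ⟨.x24, Or.inl rfl⟩
  · exact ⟨.x24, Or.inr rfl⟩
  · exact ⟨.x25, Or.inl rfl⟩
  · exact ⟨.x25, Or.inr rfl⟩
  · exact ⟨.x29, Or.inl rfl⟩
  · exact ⟨.x29, Or.inr rfl⟩
  · exact ⟨.x47, Or.inl rfl⟩
  · exact ⟨.x47, Or.inr rfl⟩
  · exact ⟨.x96, Or.inl rfl⟩
  · exact ⟨.x96, Or.inr rfl⟩
  · exact ⟨.x129, Or.inl rfl⟩
  · exact ⟨.x129, Or.inr rfl⟩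
  · exact ⟨.x162, Or.inl rfl⟩
  · exact ⟨.x162, Or.inr rfl⟩
  · exact ⟨.x163, Or.inl rfl⟩
  · exact ⟨.x163, Or.inr rfl⟩
  · exact ⟨.x164, Or.inl rfl⟩
  · exact ⟨.x164, Or.inr rfl⟩
  · exact ⟨.x165, Or.inl rfl⟩
  · exact ⟨.x165, Or.inr rfl⟩
  · exact ⟨.x166, Or.inl rfl⟩
  · exact ⟨.x166, Or.inr rfl⟩
  · exact ⟨.x167, Or.inl rfl⟩
  · exact ⟨.x167, Or.inr rfl⟩
  · exact ⟨.x168, Or.inl rfl⟩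
  · exact ⟨.x168, Or.inr rfl⟩
  · exact ⟨.x169, Or.inl rfl⟩
  · exact ⟨.x169, Or.inr rfl⟩
  · exact ⟨.x364, Or.inl rfl⟩
  · exact ⟨.x364, Or.inr rfl⟩
  · exact ⟨.x365, Or.inl rfl⟩
  · exact ⟨.x365, Or.inr rfl⟩
  · exact ⟨.x366, Or.inl rfl⟩
  · exact ⟨.x366, Or.inr rfl⟩
  · exact ⟨.x367, Or.inl rfl⟩
  · exact ⟨.x367, Or.inr rfl⟩
  · exact ⟨.x368, Or.inl rfl⟩
  · exact ⟨.x368, Or.inr rfl⟩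
  · exact ⟨.x369, Or.inl rfl⟩
  · exact ⟨.x369, Or.inr rfl⟩
  · exact ⟨.x370, Or.inl rfl⟩
  · exact ⟨.x370, Or.inr rfl⟩
  · exact ⟨.x371, Or.inl rfl⟩
  · exact ⟨.x371, Or.inr rfl⟩

theorem link : Link P x ∧ ∀ w, PresentedGroup.mk _ w = ev x (encW P enc w) :=
  link_cox enc [] lt (fun q => by cases q <;> decide) (by decide) (fun q => by cases q <;> rfl)
    ⟨mk_inv_mul _, mk_mul_inv _, mk_inv_mul _, mk_mul_inv _, mk_inv_mul _, mk_mul_inv _, mk_inv_mul _, mk_mul_inv _, mk_inv_mul _, mk_mul_inv _, (map_mul _ _ _).symm.trans ((congrArg _ (sq _).symm).trans (mk_extra (List.mem_of_getElem? (i := 29) rfl))), mk_inv_mul _, mk_mul_inv _, mk_inv_mul _, mk_mul_inv _, mk_inv_mul _, mk_mul_inv _, mk_inv_mul _, mk_mul_inv _, mk_inv_mul _, mk_mul_inv _, mk_inv_mul _,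 mk_mul_inv _, mk_inv_mul _, mk_mul_inv _, mk_inv_mul _, mk_mul_inv _, mk_inv_mul _, mk_mul_inv _, mk_inv_mul _, mk_mul_inv _, mk_inv_mul _, mk_mul_inv _, mk_inv_mul _, mk_mul_inv _, mk_inv_mul _, mk_mul_inv _, mk_inv_mul _, mk_mul_inv _, mk_inv_mul _, mk_mul_inv _, mk_inv_mul _, mk_mul_inv _, mk_inv_mul _, mk_mul_inv _, mk_inv_mul _, mk_mul_inv _, mk_inv_mul _, mk_mul_inv _, mk_inv_mul _, mk_mul_inv _, mk_inv_mul _, mk_mul_inv _, mk_inv_mul _, mk_mul_inv _, mk_inv_mul _, mk_mul_inv _, mk_inv_mul _, mk_mul_inv _, mk_inv_mul _, mk_mul_inv _, mk_inv_mul _, mk_mul_inv _, mk_inv_mul _, mk_mul_inv _, mk_inv_mul _, mk_mul_inv _, mk_inv_mul _, mk_mul_inv _, mk_inv_mul _, mk_mul_inv _, mk_inv_mul _, mk_mul_inv _, mk_inv_mul _, mk_mul_inv _, mk_inv_mul _, mk_mul_inv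 _, trivial⟩ hk
    (c1 := [(0, 0), (3, 0), (6, 0), (9, 0), (12, 0), (15, 0), (18, 0), (21, 0), (24, 0), (27, 0), (30, 0), (33, 0), (36, 0), (39, 0), (42, 0), (45, 0), (48, 0), (51, 0), (54, 0), (57, 0), (60, 0), (63, 0), (66, 0), (69, 0), (72, 0), (75, 0), (78, 0), (81, 0), (84, 0), (255, 0), (87, 0), (90, 0), (93, 0), (96, 0), (99, 0), (102, 0), (105, 0), (108, 0), (111, 0), (114, 0), (117, 0), (120, 0), (123, 0), (126, 0), (129, 0), (132, 0), (135, 0), (138, 0), (141, 0), (144, 0), (147, 0), (150, 0), (153, 0), (156, 0), (159, 0), (162, 0), (165, 0), (168, 0), (171, 0), (174, 0), (177, 0), (180, 0), (183, 0), (186, 0), (189, 0), (192, 0), (195, 0), (198, 0), (201, 0), (204, 0), (207, 0), (210, 0), (213, 0), (216, 0), (219, 0), (222, 0), (225, 0), (228,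 0), (231, 0), (234, 0), (237, 0), (240, 0), (243, 0), (246, 0), (249, 0), (252, 0)])
    (c2 := [(0, 0), (3, 0), (6, 0), (9, 0), (12, 0), (15, 0), (18, 0), (21, 0), (24, 0), (27, 0), (30, 0), (33, 0), (36, 0), (39, 0), (42, 0), (45, 0), (48, 0), (51, 0), (54, 0), (57, 0), (60, 0), (63, 0), (66, 0), (69, 0), (72, 0), (75, 0), (78, 0), (81, 0), (84, 0), (90, 0), (93, 0), (96, 0), (99, 0), (102, 0), (105, 0), (108, 0), (111, 0), (114, 0), (117, 0), (120, 0), (123, 0), (126, 0), (129, 0), (132, 0), (135, 0), (138, 0), (141, 0), (144, 0), (147, 0), (150, 0), (153, 0), (156, 0), (159, 0), (162, 0), (165, 0), (168, 0), (171, 0), (174, 0), (177, 0), (180, 0), (183, 0), (186, 0), (189, 0), (192, 0), (195, 0), (198, 0), (201, 0), (204, 0), (207, 0), (210, 0), (213,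 0), (216, 0), (219, 0), (222, 0), (225, 0), (228, 0), (231, 0), (234, 0), (237, 0), (240, 0), (243, 0), (246, 0), (249, 0), (252, 0), (255, 0)])
    (by decide +kernel) (by decide +kernel)

end Cfsg.Agent.Spor.LyC
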