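import Cfsg.Agent.Spor.Ly.Tab

set_option autoImplicit false
set_option Elab.async false
set_option maxRecDepth 100000

namespace Cfsg.Agent.Spor.LyC

open Cfsg.Agent.Comp.BN Cfsg.Agent.Comp.DCE

set_option linter.unusedVariables false

abbrev M : Type := gen N1.π
noncomputable abbrev x0 : ℕ → M := selfT N1.π
noncomputable abbrev ρ : M →* Equiv.Perm ℕ := (gen N1.π).subtype

theorem mod (hB : Bound PH 5859000000) : Nat.card M = 5859000000 ∧ PModel PH x0 N1.π bs ρ :=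
  model_self hB N1.sat N1.ch (by decide)

theorem tm (hB : Bound PH 5859000000) : TM T ρ bs ∧ ∀ e < 19, lets T ρ e = x0 e :=
  tm_of_model (mod hB).2 (memo_spec N1.spec (K := 12) (by decide)) N1.inv (by decide +kernel) orig
    (goods (lt_of_invS (mod hB).2.map (mod hB).2.top N1.spec N1.out N1.inv)) (by decide)

theorem exists_hom (hB : Bound PH 5859000000) {K : Type} [Group K] {y : ℕ → K} (hy : Sat PH y) :
    ∃ f : M →* K, ∀ k, f (x0 k) = y k :=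
  ((mod hB).2.link hB (mod hB).1).hom K y hy

noncomputable def ρ2 (hB : Bound PH 5859000000) : M →* Equiv.Perm ℕ := (exists_hom hB N2.sat).choose

theorem hρ2 (hB : Bound PH 5859000000) : ∀ k, ρ2 hB (x0 k) = N2.π k := (exists_hom hB N2.sat).choose_spec

theorem m2 (hB : Bound PH 5859000000) : M2 (lets T ρ) x0 19 N2.act 19530 N2.π (ρ2 hB) :=
  ⟨⟨_, N2.spec⟩, fun g => lt_of_invS (hρ2 hB) (mod hB).2.top N2.spec N2.out N2.inv g 0 (by decide), hρ2 hB,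
    (mod hB).2.top, (tm hB).2⟩

theorem m3 (hB : Bound PH 5859000000) : M2 (lets T ρ) (subT x0 xws) 48 a3 19530 (subT N2.π xws) (ρ2 hB) :=
  (m2 hB).virt (tm hB).1 (memo_spec (N2.spec.sub xws) (K := 15) (by decide)) (mod hB).2.sat.out (by decide +kernel) virt

theorem kok (hB : Bound PH 5859000000) {G : Type} [Group G] {x : ℕ → G} (hx : Sat P x) {ι : M →* G}
    (hι : ∀ k, ι (x0 k) = subT x wsH k) :
    KOK ι (x 8) (lets T ρ) 48 68 20 :=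
  KOK.ders (tm hB).1 (KOK.word (tm hB).1 hx (tm hB).2 hι (KOK.word (tm hB).1 hx (tm hB).2 hι (KOK.word (tm hB).1 hx (tm hB).2 hι (KOK.word (tm hB).1 hx (tm hB).2 hι (KOK.word (tm hB).1 hx (tm hB).2 hι (KOK.word (tm hB).1 hx (tm hB).2 hι (KOK.word (tm hB).1 hx (tm hB).2 hι (KOK.word (tm hB).1 hx (tm hB).2 hι (kok_zero ι (x 8) _ 48 68) 594441 5 [1, 3, 1, 2, 5, 3, 0, 5, 2, 0] [9] [(1, 165, 0), (0, 213, 0)] (by decide +kernel)) 337586716 12 [3, 3, 0, 4, 1, 2, 4, 2] [11] [(1, 168, 0), (0, 216, 0)] (by decide +kernel)) 790544 14 [1, 3, 1, 4, 0, 2, 0] [13] [(1, 171, 0), (0, 219, 0)] (by decide +kernel)) 34999809 16 [3, 1, 2, 4, 3, 0, 2] [15] [(1, 174, 0), (0, 222, 0)] (by decide +kernel)) 4626 18 [2, 2, 1, 3, 4, 2, 0, 4, 3, 3, 5] [17] [(1, 177, 0), (0, 225, 0)] (by decide +kernel)) 67335 1 [1, 1, 1] [0] [(0, 130, 0), (1, 255, 0), (2, 180, 0), (0, 228, 0)]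 (by decide +kernel)) 50398999 196868 [2, 1, 3, 1, 1] [2, 0, 3] [(0, 133, 0), (3, 255, 0), (2, 183, 0), (0, 231, 0)] (by decide +kernel)) 12935304983 12935300100 [0, 2, 2, 0, 3, 3, 1] [2, 2, 0, 3, 3] [(0, 136, 0), (5, 255, 0), (2, 186, 0), (0, 234, 0)] (by decide +kernel)) _ rfl kder

theorem hrel (hB : Bound PH 5859000000) {G : Type} [Group G] {x : ℕ → G} (hx : Sat P x) {ι : M →* G}
    (hι : ∀ k, ι (x0 k) = subT x wsH k) :
    AllP (fun L => relG ι (x 8) (lets T ρ) L = 1) rels :=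
  ⟨relG_of_rw (tm hB).1 hx (tm hB).2 hι [[], [1, 1]] [(2, 142, 0), (2, 255, 0), (1, 238, 0)] (by decide +kernel), relG_of_rw (tm hB).1 hx (tm hB).2 hι [[3, 3, 0, 2, 2], [3, 3, 0, 2, 2], [0, 0, 3, 3, 0, 2, 2]] [(0, 141, 0), (13, 138, 0), (9, 138, 0), (5, 138, 0), (0, 241, 0)] (by decide +kernel), relG_of_rw (tm hB).1 hx (tm hB).2 hι [[1, 5, 7, 0, 5, 3, 0, 5, 7, 1, 5, 0, 4, 3, 3, 5, 3, 1, 3, 3], [1, 6, 3, 5, 1, 2, 5, 7, 2, 5, 3, 1, 5, 0, 3, 0, 2, 0, 3], [5, 7, 1, 5, 1, 2, 5, 7]] [(29, 201, 0), (11, 189, 0), (4, 156, 0), (0, 244, 0)] (by decide +kernel), relG_of_rw (tm hB).1 hx (tm hB).2 hι [[6], [1, 5, 7, 2, 1, 3, 5, 7, 2, 1, 3, 5, 3, 0, 3, 3, 0, 3], [7, 1, 1], [0, 2, 1, 2, 2, 1, 2, 2, 5, 0, 4, 2, 4, 3, 6, 4, 3, 3, 6, 4, 2, 4, 1, 1]] [(0, 153, 0), (27, 144, 0), (10, 204, 0), (11, 142, 0), (2, 255, 0), (1, 238, 0), (1, 255, 0), (9, 147, 0), (9, 142,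 0), (2, 255, 0), (1, 238, 0), (1, 255, 0), (0, 247, 0)] (by decide +kernel), relG_of_rw (tm hB).1 hx (tm hB).2 hι [[5, 3, 5, 7, 2, 2, 5, 7, 3, 5, 3, 3, 5, 2, 0, 2, 2, 0, 2, 1, 3, 1, 1], [0, 3, 3, 1, 4, 2, 5, 2, 1, 5, 5, 6, 4, 0, 4, 1, 4, 3, 7, 1, 1], [2, 0, 3, 1, 3, 3, 1, 3, 4, 2, 2, 4, 2, 6, 4, 3, 3, 6, 4, 2, 4], [7, 0, 4, 2, 4, 1, 5, 7, 0, 3, 1, 4, 1, 3, 3, 1, 2, 1]] [(0, 207, 0), (69, 142, 0), (2, 255, 0), (1, 238, 0), (1, 255, 0), (47, 198, 0), (47, 142, 0), (2, 255, 0), (1, 238, 0), (1, 255, 0), (27, 192, 0), (6, 195, 0), (7, 250, 0)] (by decide +kernel), relG_of_rw (tm hB).1 hx (tm hB).2 hι [[7, 3, 1, 1], [2, 2, 1, 3, 1, 2, 2, 5, 0, 4, 1, 5, 6, 5, 2, 2, 1, 4, 2, 1, 1], [2, 6], [5, 1, 4, 2, 5, 7, 4, 1, 4, 0, 4, 3, 1, 3, 1, 2]] [(0, 210, 0), (31, 142, 0), (2, 255, 0), (1, 238, 0), (1, 255, 0), (28, 162, 0), (28, 142, 0), (2, 255, 0), (1, 238,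 0), (1, 255, 0), (8, 150, 0), (6, 159, 0), (7, 253, 0)] (by decide +kernel), trivial⟩

theorem lev1 : LevelOK N1.π [] 0 T.N :=
  N1.ch_l0

/-- the nodes -/
noncomputable def nd {G : Type} [Group G] (x : ℕ → G) (ι : M →* G) : ℕ → Co ι :=
  node d (elM (lets T ρ)) (MulAction.toPerm (x 8) : Equiv.Perm (Co ι)) (Co.one ι)

theorem sem (hB : Bound PH 5859000000) {G : Type} [Group G] {x : ℕ → G} (hx : Sat P x) {ι : M →* G}
    (hι : ∀ k, ι (x0 k) = subT x wsH k) :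
    Sem d (RepL ρ bs) (elM (lets T ρ)) (MulAction.toPerm (x 8) : Equiv.Perm (Co ι)) (Co.one ι) :=
  sem1 (tm hB).1 (kok hB hx hι) (hrel hB hx hι) _ _ _ _

theorem valid (hB : Bound PH 5859000000) {G : Type} [Group G] {x : ℕ → G} (hx : Sat P x) {ι : M →* G}
    (hι : ∀ k, ι (x0 k) = subT x wsH k) :
    ∀ r < 123, Valid d (elM (lets T ρ)) (MulAction.toPerm (x 8) : Equiv.Perm (Co ι)) (nd x ι) (d.F r) :=
  ok _ _ _ _ _ _ (sem hB hx hι)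

theorem lev2 : levelC a3 15 [] 0 [[0], [1], [2], [3], [4], [5], [6], [7], [8], [9], [10], [11], [12], [13], [14], [15], [16], [17], [18]] 2 19530 = true :=
  by decide +kernel

theorem hK (hB : Bound PH 5859000000) {G : Type} [Group G] {x : ℕ → G} (hx : Sat P x) {ι : M →* G}
    (hι : ∀ k, ι (x0 k) = subT x wsH k) :
    ∀ k : M, ρ2 hB k 0 = 0 → ∃ t, KP ι (x 8) k t :=
  have := (mod hB).2.fin
  fix_le_K (tm hB).1 (m3 hB) (kok hB hx hι) kfix chK lev2 ((mod hB).1.le.trans (by decide +kernel))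

theorem lab0 (hB : Bound PH 5859000000) {G : Type} [Group G] {x : ℕ → G} (hx : Sat P x) {ι : M →* G}
    (hι : ∀ k, ι (x0 k) = subT x wsH k) :
    Lab (ρ2 hB) ι (x 8) (nd x ι) 31 0 (ones 19530) :=
  Lab.close (tm hB).1 (m3 hB) (valid hB hx hι)
    (Lab.roots (m3 hB) (valid hB hx hι) (dead_of (valid hB hx hι) _ dead) (lab_zero _ _) _ roots0) close0

theorem stab0 (hB : Bound PH 5859000000) {G : Type} [Group G] {x : ℕ → G} (hx : Sat P x) {ι : M →* G}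
    (hι : ∀ k, ι (x0 k) = subT x wsH k) :
    Stab ρ (nd x ι 0) [] 5859000000 :=
  stab_top (fun m => by rw [nd, node_zero]; exact Co.fix ι m) (mod hB).1

theorem lab1 (hB : Bound PH 5859000000) {G : Type} [Group G] {x : ℕ → G} (hx : Sat P x) {ι : M →* G}
    (hι : ∀ k, ι (x0 k) = subT x wsH k) :
    Lab (ρ2 hB) ι (x 8) (nd x ι) 31 1 (ones 19530) :=
  Lab.close (tm hB).1 (m3 hB) (valid hB hx hι)
    (Lab.roots (m3 hB) (valid hB hx hι) (dead_of (valid hB hx hι) _ dead) (lab_zero _ _) _ roots1) close1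

theorem stab1 (hB : Bound PH 5859000000) {G : Type} [Group G] {x : ℕ → G} (hx : Sat P x) {ι : M →* G}
    (hι : ∀ k, ι (x0 k) = subT x wsH k) :
    Stab ρ (nd x ι 1) [0] 300000 :=
  have := (mod hB).2.fin
  stab_of_chain (tm hB).1 (valid hB hx hι) ch1

theorem lab2 (hB : Bound PH 5859000000) {G : Type} [Group G] {x : ℕ → G} (hx : Sat P x) {ι : M →* G}
    (hι : ∀ k, ι (x0 k) = subT x wsH k) :
    Lab (ρ2 hB) ι (x 8) (nd x ι) 31 2 (ones 19530) :=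
  Lab.close (tm hB).1 (m3 hB) (valid hB hx hι)
    (Lab.roots (m3 hB) (valid hB hx hι) (dead_of (valid hB hx hι) _ dead) (lab_zero _ _) _ roots2) close2

theorem stab2 (hB : Bound PH 5859000000) {G : Type} [Group G] {x : ℕ → G} (hx : Sat P x) {ι : M →* G}
    (hι : ∀ k, ι (x0 k) = subT x wsH k) :
    Stab ρ (nd x ι 2) [] 6048 :=
  have := (mod hB).2.fin
  stab_of_chain (tm hB).1 (valid hB hx hι) ch2

theorem lab3 (hB : Bound PH 5859000000) {G : Type} [Group G] {x : ℕ → G} (hx : Sat P x) {ι : M →* G}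
    (hι : ∀ k, ι (x0 k) = subT x wsH k) :
    Lab (ρ2 hB) ι (x 8) (nd x ι) 31 3 (ones 19530) :=
  Lab.close (tm hB).1 (m3 hB) (valid hB hx hι)
    (Lab.roots (m3 hB) (valid hB hx hι) (dead_of (valid hB hx hι) _ dead) (lab_zero _ _) _ roots3) close3

theorem stab3 (hB : Bound PH 5859000000) {G : Type} [Group G] {x : ℕ → G} (hx : Sat P x) {ι : M →* G}
    (hι : ∀ k, ι (x0 k) = subT x wsH k) :
    Stab ρ (nd x ι 3) [] 2880 :=
  have := (mod hB).2.fin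
  stab_of_chain (tm hB).1 (valid hB hx hι) ch3

theorem lab4 (hB : Bound PH 5859000000) {G : Type} [Group G] {x : ℕ → G} (hx : Sat P x) {ι : M →* G}
    (hι : ∀ k, ι (x0 k) = subT x wsH k) :
    Lab (ρ2 hB) ι (x 8) (nd x ι) 31 4 (ones 19530) :=
  Lab.close (tm hB).1 (m3 hB) (valid hB hx hι)
    (Lab.roots (m3 hB) (valid hB hx hι) (dead_of (valid hB hx hι) _ dead) (lab_zero _ _) _ roots4) close4

theorem stab4 (hB : Bound PH 5859000000) {G : Type} [Group G] {x : ℕ → G} (hx : Sat P x) {ι : M →* G}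
    (hι : ∀ k, ι (x0 k) = subT x wsH k) :
    Stab ρ (nd x ι 4) [] 1008 :=
  have := (mod hB).2.fin
  stab_of_chain (tm hB).1 (valid hB hx hι) ch4

/-- the nodes representing the orbits -/
def reps : List ℕ := [0, 1, 2, 3, 4]

/-- the sizes of the orbits -/
def ns : List ℕ := [1, 19530, 968750, 2034375, 5812500]

theorem cover (hB : Bound PH 5859000000) {G : Type} [Group G] {x : ℕ → G} (hx : Sat P x) {ι : M →* G}
    (hι : ∀ k, ι (x0 k) = subT x wsH k) (top : gen x = ⊤) :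
    Cover ι.range (fun i => nd x ι (nth 1 reps i)) ns :=
  have := (mod hB).2.fin
  cover_of (m3 hB) (hK hB hx hι) (sup_eq_top hx top (mod hB).2.top hι [[0], [1], [2], [3], [4], [5], [6], [7], [8], [9], [10], [0], [1], [2, 0, 3], [2, 1, 3], [2, 2, 0, 3, 3], [2, 2, 1, 3, 3], [3, 3, 0, 2, 2], [3, 3, 1, 2, 2], [19], [20], [21], [22], [23], [24], [25], [26], [27], [28], [0, 0], [1, 1], [6], [7], [7], [6], [2, 2, 1, 3, 1, 2, 2, 5, 0, 4, 1, 5, 6, 5, 2, 2, 1, 4, 2], [3, 5, 0, 3, 3, 4, 7, 4, 0, 5, 1, 4, 3, 3, 0, 2, 0, 3, 3], [0, 2, 1, 2, 2, 1, 2, 2, 5, 0, 4, 2, 4, 3, 6, 4, 3, 3, 6, 4, 2, 4], [5, 3, 5, 7, 2, 2, 5, 7, 2, 5, 3, 5, 1, 4, 3, 3, 0, 3, 3, 0, 3, 1], [5, 7, 1, 5, 1, 2, 5, 7], [6, 4, 3, 0, 4, 0, 6, 4], [2, 6], [7, 3], [7, 3], [2, 6], [1, 3, 1, 2, 5, 3, 0, 5, 2, 0], [1, 3, 4, 1, 2, 4, 3, 0, 2, 0], [3, 3, 0, 4, 1, 2, 4, 2], [3, 5, 3, 0, 5, 1, 2, 2],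 [1, 3, 1, 4, 0, 2, 0], [1, 3, 1, 5, 0, 2, 0], [3, 1, 2, 4, 3, 0, 2], [3, 1, 2, 5, 3, 0, 2], [2, 2, 1, 3, 4, 2, 0, 4, 3, 3, 5], [4, 2, 2, 5, 1, 3, 5, 2, 0, 3, 3], [1, 1, 1], [0, 0, 0], [2, 1, 3, 1, 1], [0, 0, 2, 0, 3], [0, 2, 2, 0, 3, 3, 1], [0, 2, 2, 1, 3, 3, 1], [1, 6, 3, 5, 1, 2, 5, 7, 2, 5, 3, 1, 5, 0, 3, 0, 2, 0, 3], [2, 1, 3, 1, 2, 1, 4, 0, 2, 4, 3, 6, 4, 3, 0, 4, 2, 7, 0], [0, 3, 3, 1, 4, 2, 5, 2, 1, 5, 5, 6, 4, 0, 4, 1, 4, 3, 7], [6, 2, 5, 0, 5, 1, 5, 7, 4, 4, 0, 3, 4, 3, 5, 0, 2, 2, 1], [2, 0, 3, 1, 3, 3, 1, 3, 4, 2, 2, 4, 2, 6, 4, 3, 3, 6, 4, 2, 4], [5, 3, 5, 7, 2, 2, 5, 7, 3, 5, 3, 3, 5, 2, 0, 2, 2, 0, 2, 1, 3], [5, 3, 5, 7, 2, 2, 5, 7, 3, 5, 3, 3, 5, 2, 0, 2, 2, 0, 2, 1, 3], [2, 0, 3, 1, 3, 3, 1, 3, 4, 2, 2, 4, 2, 6, 4, 3, 3, 6, 4, 2, 4], [1, 5, 7, 0, 5, 3, 0, 5, 7, 1, 5, 0, 4, 3, 3, 5, 3, 1, 3, 3], [2, 2, 0, 2, 4, 2, 2, 5, 1, 4, 0, 6,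 4, 1, 2, 4, 1, 6, 4, 0], [1, 5, 7, 2, 1, 3, 5, 7, 2, 1, 3, 5, 3, 0, 3, 3, 0, 3], [2, 1, 2, 2, 1, 2, 4, 2, 0, 3, 6, 4, 2, 0, 3, 6, 4, 0], [7, 0, 4, 2, 4, 1, 5, 7, 0, 3, 1, 4, 1, 3, 3, 1, 2, 1], [0, 3, 0, 2, 2, 0, 5, 0, 2, 1, 6, 4, 0, 5, 3, 5, 1, 6], [5, 1, 4, 2, 5, 7, 4, 1, 4, 0, 4, 3, 1, 3, 1, 2], [3, 0, 2, 0, 2, 5, 1, 5, 0, 5, 6, 4, 3, 5, 0, 4]] [(255, 0), (255, 0), (255, 0), (255, 0), (255, 0), (255, 0), (255, 0), (255, 0), (255, 0), (255, 0), (255, 0), (130, 1), (129, 0), (133, 3), (132, 0), (136, 5), (135, 0), (139, 5), (138, 0), (255, 0), (255, 0), (255, 0), (255, 0), (255, 0), (255, 0), (255, 0), (255, 0), (255, 0), (255, 0), (142, 2), (141, 0), (145, 1), (144, 0), (148, 1), (147, 0), (151, 19), (150, 0), (154, 22), (153, 0), (157, 8), (156, 0), (160, 2), (159, 0), (163, 2), (162, 0), (166, 10), (165, 0), (169, 8), (168, 0), (172, 7), (171,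 0), (175, 7), (174, 0), (178, 11), (177, 0), (181, 3), (180, 0), (184, 5), (183, 0), (187, 7), (186, 0), (190, 19), (189, 0), (193, 19), (192, 0), (196, 21), (195, 0), (199, 21), (198, 0), (202, 20), (201, 0), (205, 18), (204, 0), (208, 18), (207, 0), (211, 16), (210, 0)] (by decide +kernel))
    (node_zero _ _ _ _) [(0, 1, 5859000000, []), (1, 19530, 300000, [0]), (2, 968750, 6048, []), (3, 2034375, 2880, []), (4, 5812500, 1008, [])] (by decide +kernel) rfl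
    ⟨⟨lab0 hB hx hι, stab0 hB hx hι⟩, ⟨lab1 hB hx hι, stab1 hB hx hι⟩, ⟨lab2 hB hx hι, stab2 hB hx hι⟩, ⟨lab3 hB hx hι, stab3 hB hx hι⟩, ⟨lab4 hB hx hι, stab4 hB hx hι⟩, trivial⟩
    ⟨⟨by decide, (mod hB).1.le.trans (by decide)⟩, ⟨by decide, (mod hB).1.le.trans (by decide)⟩, ⟨by decide, (mod hB).1.le.trans (by decide)⟩, ⟨by decide, (mod hB).1.le.trans (by decide)⟩, ⟨by decide, (mod hB).1.le.trans (by decide)⟩, trivial⟩

theorem bound (hB : Bound PH 5859000000) (hI : Impl P PH wsH) : Bound P 51765179004000000 := fun _ _ x hx => by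
  obtain ⟨ι, hι⟩ := exists_hom hB (hI _ _ (sat_selfT hx))
  have := (mod hB).2.fin
  obtain ⟨h1, h2⟩ := card_range_le ι
  exact (cover hB (sat_selfT hx) hι (gen_selfT x)).bound (h2.trans (mod hB).1.le)

theorem coatom (hB : Bound PH 5859000000) {G : Type} [Group G] {x : ℕ → G} (hx : Sat P x) {ι : M →* G}
    (hι : ∀ k, ι (x0 k) = subT x wsH k) (top : gen x = ⊤) (h : ι.range.index = 8835156) : IsCoatom ι.range :=
  (cover hB hx hι top).isCoatom h (by decide) (nb := 1) (by decide +kernel)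

theorem core (hB : Bound PH 5859000000) {G : Type} [Group G] {x : ℕ → G} (hx : Sat P x) {ι : M →* G}
    (hι : ∀ k, ι (x0 k) = subT x wsH k) (top : gen x = ⊤) (h : ι.range.index = 8835156) : ι.range.normalCore = ⊥ :=
  have := (mod hB).2.fin
  core_eq_bot (stab1 hB hx hι) ((cover hB hx hι top).exact h (i := 1) (by decide)) ((mod hB).1.le.trans (by decide))
    (base_of_level (mod hB).2.map (tm hB).1.supp (by decide) lev1 (tm hB).1.bl (mod hB).2.base)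

end Cfsg.Agent.Spor.LyC
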